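import Mathlib
import Cfsg.Agent.Lib.MinDeg.Rep
import Cfsg.Agent.Lib.LS.QForm

/-!
# Abelian radicals of point stabilisers and class sums

A group acting on a vector space with an abelian group `T a` attached to every centre `a`
(transvections, Eichler transformations).  When a character of `T a` occurs with multiplicity one, the sum
of the projections onto the fixed spaces is evaluated on an eigenvector.
-/

set_option autoImplicit false

namespace CfsgLib.ClDeg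

open Module CfsgLib.MinDeg
open scoped _root_.Classical

section Proj

variable {G V : Type*} [Group G] [AddCommGroup V] [Module ℂ V] {ρ : Representation ℂ G V}
  {E : Type*} [AddCommGroup E] [Fintype E]

variable (ρ) in
/-- the projection onto an eigenspace of an abelian family -/
noncomputable def pj (z : E → G) (χ : AddChar E ℂ) : End ℂ V :=
  (Fintype.card E : ℂ)⁻¹ • ∑ t, χ (-t) • ρ (z t)

theorem pj_apply (z : E → G) (χ : AddChar E ℂ) (v : V) :
    pj ρ z χ v = (Fintype.card E : ℂ)⁻¹ • ∑ t, χ (-t) • ρ (z t) v := by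
  simp [pj, LinearMap.sum_apply]

theorem pj_apply_apply {z : E → G} (hz : ∀ s t, z (s + t) = z s * z t) (χ : AddChar E ℂ) (s : E) (v : V) :
    pj ρ z χ (ρ (z s) v) = χ s • pj ρ z χ v := by
  rw [pj_apply, pj_apply, smul_comm (χ s), Finset.smul_sum (r := χ s)]
  congr 1
  refine Fintype.sum_equiv (Equiv.addRight s) _ _ fun t => ?_
  simp only [Equiv.coe_addRight]
  rw [hz, map_mul, End.mul_apply, smul_smul, ← AddChar.map_add_eq_mul, neg_add_rev, add_neg_cancel_left]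

theorem pj_mem {z : E → G} (hz : ∀ s t, z (s + t) = z s * z t) (χ : AddChar E ℂ) (v : V) :
    pj ρ z χ v ∈ ex ρ z χ := fun s => by
  rw [← pj_apply_apply hz, pj_apply, pj_apply, map_smul, map_sum]
  congr 1
  refine Finset.sum_congr rfl fun t _ => ?_
  rw [map_smul, ← End.mul_apply, ← End.mul_apply, ← map_mul, ← map_mul, ← hz, ← hz, add_comm]

theorem pj_eq_self {z : E → G} {χ : AddChar E ℂ} {v : V} (hv : v ∈ ex ρ z χ) : pj ρ z χ v = v := by
  rw [pj_apply, Finset.sum_congr rfl fun t _ => show χ (-t) • ρ (z t) v = v by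
    rw [hv t, smul_smul, ← AddChar.map_add_eq_mul, neg_add_cancel, AddChar.map_zero_eq_one, one_smul]]
  rw [Finset.sum_const, Finset.card_univ, ← Nat.cast_smul_eq_nsmul ℂ, smul_smul,
    inv_mul_cancel₀ (Nat.cast_ne_zero.2 Fintype.card_ne_zero), one_smul]

theorem pj_eq_zero {z : E → G} (hz : ∀ s t, z (s + t) = z s * z t) {χ : AddChar E ℂ} {v : V} {s : E} {c : ℂ}
    (hv : ρ (z s) v = c • v) (hc : c ≠ χ s) : pj ρ z χ v = 0 := by
  have := pj_apply_apply (ρ := ρ) hz χ s v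
  rw [hv, map_smul, ← sub_eq_zero, ← sub_smul, smul_eq_zero, sub_eq_zero] at this
  exact this.resolve_left hc

theorem pj_mem_of_stab {z : E → G} (χ : AddChar E ℂ) {W : Submodule ℂ V} {v : V} (h : ∀ t, ρ (z t) v ∈ W) :
    pj ρ z χ v ∈ W := by
  rw [pj_apply]
  exact W.smul_mem _ (W.sum_mem fun t _ => W.smul_mem _ (h t))

omit [Fintype E] [AddCommGroup E] in
theorem sum_finrank_of_proj [FiniteDimensional ℂ V] (s : Finset E) (p : E → End ℂ V) (X : E → Submodule ℂ V)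
    {W : Submodule ℂ V} (h1 : ∀ i ∈ s, ∀ v, p i v ∈ X i) (h2 : ∀ i ∈ s, ∀ v ∈ X i, p i v = v)
    (h3 : ∀ i ∈ s, ∀ v ∈ W, p i v ∈ W) {κ : ℂ} (hκ : ∀ v ∈ W, ∑ i ∈ s, p i v = κ • v) :
    ∑ i ∈ s, (finrank ℂ ↥(W ⊓ X i) : ℂ) = κ * finrank ℂ W := by
  have e : ∑ i ∈ s.attach, (p i).restrict (h3 i i.2) = κ • (1 : End ℂ W) := LinearMap.ext fun v => Subtype.ext (by
    simp only [LinearMap.sum_apply, AddSubmonoidClass.coe_finsetSum, LinearMap.coe_restrict_apply]
    rw [Finset.sum_attach s fun i => p i v, hκ v v.2]; rfl)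
  have := congrArg (LinearMap.trace ℂ W) e
  rw [map_sum, map_smul, LinearMap.trace_one, smul_eq_mul] at this
  rw [← this, ← Finset.sum_attach]
  refine Finset.sum_congr rfl fun i _ => ?_
  rw [← finrank_comap]
  have : LinearMap.IsProj ((X i).comap W.subtype) ((p i).restrict (h3 i i.2)) :=
    ⟨fun v => h1 i i.2 v, fun v hv => Subtype.ext (h2 i i.2 v hv)⟩
  exact this.trace.symm

end Proj

theorem eq_zero_of_smul_eq {V : Type*} [AddCommGroup V] [Module ℂ V] {c : ℂ} {v : V} (h : c • v = v) (hc : c ≠ 1) :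
    v = 0 := by
  nth_rw 2 [← one_smul ℂ v] at h
  rw [← sub_eq_zero, ← sub_smul, smul_eq_zero, sub_eq_zero] at h
  exact h.resolve_left hc

theorem isIrreducible_comp {G H V : Type*} [Group G] [Group H] [AddCommGroup V] [Module ℂ V]
    (ρ : Representation ℂ G V) [ρ.IsIrreducible] (e : H ≃* G) :
    Representation.IsIrreducible (ρ.comp e.toMonoidHom) := by
  have := CharDeg.nontrivial_of_isIrreducible ρ
  refine CharDeg.isIrreducible_of_invariant _ fun W hW => ?_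
  let U : Subrepresentation ρ := ⟨W, fun g v hv => by simpa using hW (e.symm g) v hv⟩
  exact (eq_bot_or_eq_top U).imp (congrArg Subrepresentation.toSubmodule) (congrArg Subrepresentation.toSubmodule)

theorem exists_psi_ne {F : Type*} [Field F] {ψ : AddChar F ℂ} (hψ : ψ ≠ 1) {c : F} (hc : c ≠ 0) :
    ∃ t, ψ (t * c) ≠ 1 := by
  obtain ⟨s, hs⟩ := AddChar.ne_one_iff.1 hψ
  exact ⟨s / c, by rwa [div_mul_cancel₀ _ hc]⟩

theorem exists_dual_span {F N : Type*} [Field F] [AddCommGroup N] [Module F N] {L : Submodule F N} {x : N}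
    (hx : x ∉ L) : ∃ f : Dual F N, (∀ y ∈ L, f y = 0) ∧ f x = 1 := by
  obtain ⟨α, h1, h2⟩ := Submodule.exists_dual_map_eq_bot_of_notMem hx inferInstance
  refine ⟨(α x)⁻¹ • α, fun y hy => ?_, by simp [h1]⟩
  have : α y ∈ L.map α := Submodule.mem_map_of_mem hy
  rw [h2, Submodule.mem_bot] at this
  simp [this]

/-- centres, their neighbourhoods and the abelian groups attached to them -/
structure TSys (F N G : Type*) [Field F] [AddCommGroup N] [Module F N] [Group G] where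
  act : G →* (N ≃ₗ[F] N)
  S : Set N
  C : N → Submodule F N
  T : N → Dual F N → G
  ne_zero : ∀ a ∈ S, a ≠ 0
  mem_C : ∀ a ∈ S, a ∈ C a
  C_symm : ∀ a ∈ S, ∀ b ∈ S, b ∈ C a → a ∈ C b
  comb : ∀ a ∈ S, ∀ b ∈ S, b ∈ C a → ∀ x ∈ Submodule.span F {a, b}, x ≠ 0 → x ∈ S
  act_S : ∀ g, ∀ a ∈ S, act g a ∈ S
  T_add : ∀ a ∈ S, ∀ f f' : Dual F N, f a = 0 → f' a = 0 → T a (f + f') = T a f * T a f'
  T_conj : ∀ g, ∀ a ∈ S, ∀ f : Dual F N, f a = 0 →
    g * T a f * g⁻¹ = T (act g a) (f ∘ₗ (act g).symm.toLinearMap)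
  T_act : ∀ a ∈ S, ∀ f : Dual F N, f a = 0 → ∀ x ∈ C a, act (T a f) x = x + f x • a
  trans : ∀ a ∈ S, ∀ b ∈ S, b ∈ C a → b ∉ F ∙ a → ∀ a' ∈ S, ∀ b' ∈ S, b' ∈ C a' → b' ∉ F ∙ a' →
    ∃ g, act g a = a' ∧ act g b = b'

variable {F N G : Type*} [Field F] [AddCommGroup N] [Module F N] [Group G]

/-- the functionals vanishing at `a` -/
abbrev Ann (F : Type*) {N : Type*} [Field F] [AddCommGroup N] [Module F N] (a : N) : Submodule F (Dual F N) :=
  LinearMap.ker (Dual.eval F N a)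

/-- the character of `Ann a` given by a vector -/
noncomputable def chr (ψ : AddChar F ℂ) (a b : N) : AddChar (Ann F a) ℂ :=
  ψ.compAddMonoidHom (Dual.eval F N b ∘ₗ (Ann F a).subtype).toAddMonoidHom

theorem chr_apply (ψ : AddChar F ℂ) (a b : N) (f : Ann F a) : chr ψ a b f = ψ (f.1 b) := rfl

theorem card_Ann [Fintype F] [Fintype N] [Fintype (Dual F N)] {a : N} (ha : a ≠ 0) :
    Fintype.card (Ann F a) * Fintype.card F = Fintype.card N := by
  have := Module.Finite.of_finite (R := F) (M := N)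
  have h := LS.card_ker_mul (Dual.eval F N a) (fun t => by
    obtain ⟨f, hf⟩ := LS.exists_dual_one (F := F) ha
    exact ⟨t • f, by simp [hf]⟩) 0
  rw [← Nat.card_eq_fintype_card (α := Dual F N), LS.card_dual, Nat.card_eq_fintype_card] at h
  rw [← h, Fintype.card_subtype]
  congr!

namespace TSys

variable (D : TSys F N G) {V : Type*} [AddCommGroup V] [Module ℂ V] (ρ : Representation ℂ G V)
  (ψ : AddChar F ℂ)

/-- admissible pairs -/
def P (a b : N) : Prop := a ∈ D.S ∧ b ∈ D.S ∧ b ∈ D.C a ∧ b ∉ F ∙ a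

/-- the eigenspace of the group with centre `a` -/
noncomputable def E (a b : N) : Submodule ℂ V := ex ρ (fun f : Ann F a => D.T a f) (chr ψ a b)

/-- the projection onto `E a b` -/
noncomputable def π [Fintype (Dual F N)] (a b : N) : End ℂ V := pj ρ (fun f : Ann F a => D.T a f) (chr ψ a b)

/-- the stabiliser of a subspace -/
def K (L : Submodule F N) : Subgroup G where
  carrier := {g | ∀ x, D.act g x ∈ L ↔ x ∈ L}
  mul_mem' {g h} hg hh x := by rw [map_mul, LinearEquiv.mul_apply, hg, hh]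
  one_mem' x := by simp
  inv_mem' {g} hg x := by rw [← hg, ← LinearEquiv.mul_apply, ← map_mul, mul_inv_cancel, map_one]; rfl

/-- the span of the orbit of a vector -/
def orb (H : Subgroup G) (v : V) : Submodule ℂ V := Submodule.span ℂ {w | ∃ g ∈ H, ρ g v = w}

variable {D ρ ψ}

theorem mem_orb {H : Subgroup G} {g : G} (hg : g ∈ H) (v : V) : ρ g v ∈ orb ρ H v :=
  Submodule.subset_span ⟨g, hg, rfl⟩

theorem orb_le {H : Subgroup G} {v : V} {W : Submodule ℂ V} (h : ∀ g ∈ H, ρ g v ∈ W) : orb ρ H v ≤ W :=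
  Submodule.span_le.2 fun _ ⟨g, hg, e⟩ => e ▸ h g hg

theorem apply_mem_orb {H : Subgroup G} {g : G} (hg : g ∈ H) {v w : V} (hw : w ∈ orb ρ H v) :
    ρ g w ∈ orb ρ H v :=
  orb_le (W := (orb ρ H v).comap (ρ g)) (fun h hh => by
    rw [Submodule.mem_comap, ← End.mul_apply, ← map_mul]; exact mem_orb (mul_mem hg hh) v) hw

theorem orb_top [ρ.IsIrreducible] {v : V} (hv : v ≠ 0) : orb ρ ⊤ v = ⊤ := by
  let W : Subrepresentation ρ := ⟨orb ρ ⊤ v, fun g _ hw => apply_mem_orb (Subgroup.mem_top g) hw⟩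
  rcases eq_bot_or_eq_top W with h | h
  · have : ρ 1 v ∈ W.toSubmodule := mem_orb (Subgroup.mem_top 1) v
    rw [h, map_one] at this
    exact absurd this hv
  · exact congrArg Subrepresentation.toSubmodule h

theorem act_inv (g : G) (x : N) : D.act g⁻¹ x = (D.act g).symm x := by rw [map_inv]; rfl

theorem mem_E {a b : N} {v : V} : v ∈ D.E ρ ψ a b ↔ ∀ f : Dual F N, f a = 0 → ρ (D.T a f) v = ψ (f b) • v :=
  ⟨fun h f hf => h ⟨f, hf⟩, fun h f => h f.1 f.2⟩

theorem E_congr {a b b' : N} (h : b' - b ∈ F ∙ a) : D.E ρ ψ a b' = D.E ρ ψ a b := by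
  obtain ⟨t, ht⟩ := Submodule.mem_span_singleton.1 h
  have : ∀ f : Dual F N, f a = 0 → f b' = f b := fun f hf => by rw [← sub_eq_zero, ← map_sub, ← ht]; simp [hf]
  ext v
  simp only [mem_E]
  exact forall₂_congr fun f hf => by rw [this f hf]

theorem hadd {a : N} (ha : a ∈ D.S) (f f' : Ann F a) : D.T a (f + f').1 = D.T a f * D.T a f' :=
  D.T_add a ha _ _ f.2 f'.2

theorem T_zero {a : N} (ha : a ∈ D.S) : D.T a 0 = 1 := by
  have := D.T_add a ha 0 0 rfl rfl
  rwa [add_zero, left_eq_mul] at this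

theorem T_self {a : N} (ha : a ∈ D.S) {f : Dual F N} (hf : f a = 0) : D.act (D.T a f) a = a := by
  rw [D.T_act a ha f hf a (D.mem_C a ha), hf, zero_smul, add_zero]

theorem T_conj' (g : G) {a : N} (ha : a ∈ D.S) {f : Dual F N} (hf : f (D.act g a) = 0) :
    D.T (D.act g a) f * g = g * D.T a (f ∘ₗ (D.act g).toLinearMap) := by
  rw [mul_inv_eq_iff_eq_mul.1 (D.T_conj g a ha (f ∘ₗ (D.act g).toLinearMap) hf)]
  congr 2
  ext; simp

theorem apply_mem_E (g : G) {a b : N} (ha : a ∈ D.S) {v : V} (hv : v ∈ D.E ρ ψ a b) :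
    ρ g v ∈ D.E ρ ψ (D.act g a) (D.act g b) := mem_E.2 fun f hf => by
  rw [← End.mul_apply, ← map_mul, T_conj' g ha hf, map_mul, End.mul_apply, mem_E.1 hv _ hf, map_smul]; rfl

theorem P.act {a b : N} (h : D.P a b) {a' b' : N} (h' : D.P a' b') : ∃ g, D.act g a = a' ∧ D.act g b = b' :=
  D.trans a h.1 b h.2.1 h.2.2.1 h.2.2.2 a' h'.1 b' h'.2.1 h'.2.2.1 h'.2.2.2

theorem finrank_inf_E [FiniteDimensional ℂ V] {W : Submodule ℂ V} {g : G} (hg : ∀ v ∈ W, ρ g v ∈ W)
    (hg' : ∀ v ∈ W, ρ g⁻¹ v ∈ W) {a : N} (ha : a ∈ D.S) (b : N) :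
    finrank ℂ ↥(W ⊓ D.E ρ ψ (D.act g a) (D.act g b)) = finrank ℂ ↥(W ⊓ D.E ρ ψ a b) :=
  (finrank_eq_of_apply (ρ := ρ) (W := W ⊓ D.E ρ ψ a b) (W' := W ⊓ D.E ρ ψ (D.act g a) (D.act g b)) g
    (fun v hv => ⟨hg v hv.1, apply_mem_E g ha hv.2⟩) fun v hv => ⟨hg' v hv.1, by
      simpa [act_inv] using apply_mem_E g⁻¹ (D.act_S g a ha) hv.2⟩).symm

theorem P.finrank_E [FiniteDimensional ℂ V] {a b a' b' : N} (h : D.P a b) (h' : D.P a' b') :
    finrank ℂ (D.E ρ ψ a' b') = finrank ℂ (D.E ρ ψ a b) := by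
  obtain ⟨g, rfl, rfl⟩ := h.act h'
  have := finrank_inf_E (ρ := ρ) (ψ := ψ) (W := ⊤) (g := g) (fun _ _ => trivial) (fun _ _ => trivial) h.1 b
  rwa [top_inf_eq, top_inf_eq] at this

theorem P.span_le {a b c : N} (h : D.P a b) (hc : c ∈ Submodule.span F {a, b}) (h0 : c ≠ 0) :
    Submodule.span F {a, b} ≤ D.C c := by
  have hc' := D.comb a h.1 b h.2.1 h.2.2.1 c hc h0
  have h1 : Submodule.span F {a, b} ≤ D.C a := Submodule.span_le.2 (by
    rintro _ (rfl | rfl); exacts [D.mem_C _ h.1, h.2.2.1])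
  have h2 : Submodule.span F {a, b} ≤ D.C b := Submodule.span_le.2 (by
    rintro _ (rfl | rfl); exacts [D.C_symm _ h.1 _ h.2.1 h.2.2.1, D.mem_C _ h.2.1])
  exact Submodule.span_le.2 (by
    rintro _ (rfl | rfl); exacts [D.C_symm _ h.1 _ hc' (h1 hc), D.C_symm _ h.2.1 _ hc' (h2 hc)])

theorem P.of_mem {a b c d : N} (h : D.P a b) (hc : c ∈ Submodule.span F {a, b}) (h0 : c ≠ 0)
    (hd : d ∈ Submodule.span F {a, b}) (hcd : d ∉ F ∙ c) : D.P c d :=
  ⟨D.comb a h.1 b h.2.1 h.2.2.1 c hc h0, D.comb a h.1 b h.2.1 h.2.2.1 d hd fun e => hcd (e ▸ zero_mem _),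
    h.span_le hc h0 hd, hcd⟩

theorem mem_K_of_finite [Finite N] {L : Submodule F N} {g : G} (h : ∀ x ∈ L, D.act g x ∈ L) : g ∈ D.K L := by
  refine fun x => ⟨fun hx => ?_, h x⟩
  obtain ⟨y, hy⟩ := (Finite.injective_iff_surjective (f := fun y : L => (⟨D.act g y, h y y.2⟩ : L))).1
    (fun y z e => Subtype.ext ((D.act g).injective (congrArg Subtype.val e))) ⟨_, hx⟩
  exact (D.act g).injective (congrArg Subtype.val hy) ▸ y.2

theorem mem_stab_E {g : G} {a b : N} (ha : a ∈ D.S) (h : D.E ρ ψ (D.act g a) (D.act g b) = D.E ρ ψ a b) :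
    g ∈ stab ρ (D.E ρ ψ a b) :=
  ⟨fun _ hv => h.le (apply_mem_E g ha hv), fun v hv => by
    have := apply_mem_E g⁻¹ (D.act_S g a ha) (h.ge hv)
    rwa [act_inv, act_inv, LinearEquiv.symm_apply_apply, LinearEquiv.symm_apply_apply] at this⟩

theorem mem_stab_of_fix {g : G} {a b : N} (ha : a ∈ D.S) (h : D.act g a = a) (h' : D.act g b = b) :
    g ∈ stab ρ (D.E ρ ψ a b) := mem_stab_E ha (by rw [h, h'])

theorem fix_of_conj {W : Submodule ℂ V} (hW : finrank ℂ W = 1) {x y z : G} (hx : x ∈ stab ρ W) (hy : y ∈ stab ρ W)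
    (e : x * y * x⁻¹ = y * z) {v : V} (hv : v ∈ W) : ρ z v = v := by
  obtain ⟨w, -, rfl⟩ := exists_span_of_finrank_eq_one hW
  obtain ⟨c, rfl⟩ := Submodule.mem_span_singleton.1 hv
  have := conj_apply_of_mem_stab hx hy
  rw [e, map_mul, End.mul_apply] at this
  rw [map_smul, ← inv_apply_apply (ρ := ρ) y (ρ z w), this, inv_apply_apply]

theorem fix_of_scale {W : Submodule ℂ V} (hW : finrank ℂ W = 1) {c : N} (hc : c ∈ D.S) {f : Dual F N} (hf : f c = 0)
    {s : F} (hs : s ≠ 1) {g : G} (hg : g ∈ stab ρ W) (hT : ∀ t : F, D.T c (t • f) ∈ stab ρ W)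
    (e : ∀ t : F, g * D.T c (t • f) * g⁻¹ = D.T c ((s * t) • f)) {v : V} (hv : v ∈ W) : ρ (D.T c f) v = v := by
  refine fix_of_conj hW hg (hT (s - 1)⁻¹) ?_ hv
  rw [e, ← D.T_add c hc _ _ (by simp [hf]) hf]
  congr 1
  nth_rw 3 [← one_smul F f]
  rw [← add_smul]
  congr 1
  have := sub_ne_zero.2 hs
  field_simp
  ring

variable [Fintype (Dual F N)]

theorem π_mem {a : N} (ha : a ∈ D.S) (b : N) (v : V) : D.π ρ ψ a b v ∈ D.E ρ ψ a b := pj_mem (hadd ha) _ v

theorem π_eq_self {a b : N} {v : V} (hv : v ∈ D.E ρ ψ a b) : D.π ρ ψ a b v = v := pj_eq_self hv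

theorem π_T {a : N} (ha : a ∈ D.S) (b : N) {f : Dual F N} (hf : f a = 0) (v : V) :
    D.π ρ ψ a b (ρ (D.T a f) v) = ψ (f b) • D.π ρ ψ a b v :=
  pj_apply_apply (hadd ha) (chr ψ a b) ⟨f, hf⟩ v

theorem π_eq_zero (hψ : ψ ≠ 1) {a b b' : N} (ha : a ∈ D.S) (h : b' - b ∉ F ∙ a) {v : V}
    (hv : v ∈ D.E ρ ψ a b') : D.π ρ ψ a b v = 0 := by
  obtain ⟨f, h1, h2⟩ := exists_dual_span h
  obtain ⟨t, ht⟩ := exists_psi_ne hψ one_ne_zero
  have h3 : (t • f) a = 0 := by simp [h1 a (Submodule.mem_span_singleton_self a)]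
  refine pj_eq_zero (hadd ha) (s := ⟨t • f, h3⟩) (mem_E.1 hv _ h3) fun e => ht ?_
  rw [← h2, map_sub, mul_sub, AddChar.map_sub_eq_div]
  exact div_eq_one_iff_eq (ψ.val_isUnit _).ne_zero |>.2 e

theorem apply_π (g : G) {a : N} (ha : a ∈ D.S) (b : N) (v : V) :
    ρ g (D.π ρ ψ a b v) = D.π ρ ψ (D.act g a) (D.act g b) (ρ g v) := by
  let e : Ann F (D.act g a) ≃ Ann F a :=
    ⟨fun f => ⟨f.1 ∘ₗ (D.act g).toLinearMap, f.2⟩, fun f => ⟨f.1 ∘ₗ (D.act g).symm.toLinearMap, by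
      have : f.1 a = 0 := f.2
      simpa using this⟩, fun f => by ext; simp, fun f => by ext; simp⟩
  rw [π, π, pj_apply, pj_apply, map_smul, map_sum, Fintype.card_congr e]
  congr 1
  refine (Fintype.sum_equiv e _ _ fun f => ?_).symm
  rw [map_smul, ← End.mul_apply, ← End.mul_apply, ← map_mul, ← map_mul, T_conj' (f := f.1) g ha f.2]
  rfl

variable [Fintype F] [Fintype N]

theorem sum_π (hψ : ψ ≠ 1) {a : N} (ha : a ∈ D.S) (v : V) :
    ∑ b, D.π ρ ψ a b v = (Fintype.card F : ℂ) • v := by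
  simp only [π, pj_apply]
  rw [← Finset.smul_sum, Finset.sum_comm, Finset.sum_eq_single 0]
  · simp only [chr_apply, ZeroMemClass.coe_zero, NegMemClass.coe_neg, neg_zero, LinearMap.zero_apply,
      AddChar.map_zero_eq_one, T_zero ha, map_one, one_smul, End.one_apply, Finset.sum_const, Finset.card_univ]
    rw [← Nat.cast_smul_eq_nsmul ℂ, smul_smul, ← card_Ann (F := F) (D.ne_zero a ha), Nat.cast_mul,
      inv_mul_cancel_left₀ (Nat.cast_ne_zero.2 Fintype.card_ne_zero)]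
  · intro f _ hf
    rw [← Finset.sum_smul]
    have := AddChar.sum_eq_zero_of_ne_one (ψ := ψ.compAddMonoidHom (-f).1.toAddMonoidHom) fun e => by
      obtain ⟨x, hx⟩ := DFunLike.ne_iff.1 (show (-f).1 ≠ 0 from fun e => hf (Subtype.ext (neg_eq_zero.1 e)))
      obtain ⟨t, ht⟩ := exists_psi_ne hψ hx
      exact ht (by simpa using DFunLike.congr_fun e (t • x))
    exact smul_eq_zero_of_left this _
  · simp

theorem sum_finrank_E [FiniteDimensional ℂ V] (hψ : ψ ≠ 1) {a : N} (ha : a ∈ D.S) {W : Submodule ℂ V}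
    (hW : ∀ f : Dual F N, f a = 0 → ∀ v ∈ W, ρ (D.T a f) v ∈ W) :
    Fintype.card F * finrank ℂ W = Fintype.card F * finrank ℂ ↥(W ⊓ D.E ρ ψ a 0) +
      ∑ b with b ∉ F ∙ a, finrank ℂ ↥(W ⊓ D.E ρ ψ a b) := by
  have h1 := sum_finrank_of_proj Finset.univ (D.π ρ ψ a) (D.E ρ ψ a) (W := W) (fun b _ => π_mem ha b)
    (fun b _ v => π_eq_self) (fun b _ v hv => pj_mem_of_stab _ fun f => hW f f.2 v hv) fun v _ => sum_π hψ ha v
  have h2 : ∑ b, finrank ℂ ↥(W ⊓ D.E ρ ψ a b) = Fintype.card F * finrank ℂ W := by exact_mod_cast h1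
  rw [← h2, ← Finset.sum_filter_add_sum_filter_not _ (· ∈ F ∙ a), Finset.sum_congr rfl fun b hb => by
    rw [E_congr (b := 0) (by simpa using hb)], Finset.sum_const, smul_eq_mul, ← Fintype.card_subtype,
    ← Fintype.card_congr (LinearEquiv.toSpanNonzeroSingleton F N a (D.ne_zero a ha)).toEquiv]

theorem dim_count [FiniteDimensional ℂ V] (hψ : ψ ≠ 1) {a b : N} (hab : D.P a b)
    (h : ∀ d, d ∉ F ∙ a → ¬ D.P a d → D.E ρ ψ a d = ⊥) :
    Fintype.card F * finrank ℂ V = Fintype.card F * finrank ℂ (D.E ρ ψ a 0) +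
      (Finset.univ.filter (D.P a)).card * finrank ℂ (D.E ρ ψ a b) := by
  have := sum_finrank_E (ρ := ρ) hψ hab.1 (W := ⊤) fun _ _ _ _ => trivial
  have e : ∀ X : Submodule ℂ V, finrank ℂ ↥(⊤ ⊓ X) = finrank ℂ X := fun X => by rw [top_inf_eq]
  simp only [e, finrank_top] at this
  rw [this, ← smul_eq_mul (Finset.card _), ← Finset.sum_const]
  congr 1
  rw [Finset.sum_congr rfl (s₁ := Finset.univ.filter (D.P a)) fun d hd =>
    (hab.finrank_E (ρ := ρ) (ψ := ψ) (a' := a) (b' := d) (by simpa using hd)).symm]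
  refine (Finset.sum_subset (fun d hd => ?_) fun d hd hd' => ?_).symm
  · simpa using (Finset.mem_filter.1 hd).2.2.2.2
  · rw [h d (by simpa using hd) (by simpa using hd'), finrank_bot]

omit [Fintype (Dual F N)] in
theorem card_plane {a b : N} (ha : a ≠ 0) (hb : b ∉ F ∙ a) :
    (Finset.univ.filter (· ∈ Submodule.span F {a, b})).card = Fintype.card F ^ 2 := by
  have h := finrank_span_eq_card ((LinearIndependent.pair_iff' ha).2 fun t e =>
    hb (Submodule.mem_span_singleton.2 ⟨t, e⟩))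
  rw [Matrix.range_cons_cons_empty, Fintype.card_fin] at h
  rw [← show finrank F (Submodule.span F {a, b}) = 2 from h, ← Module.card_eq_pow_finrank, Fintype.card_subtype]

omit [Fintype (Dual F N)] in
theorem card_line {a : N} (ha : a ≠ 0) : (Finset.univ.filter (· ∈ F ∙ a)).card = Fintype.card F := by
  rw [← Fintype.card_subtype, ← Fintype.card_congr (LinearEquiv.toSpanNonzeroSingleton F N a ha).toEquiv]

variable (D ρ ψ) in
/-- multiplicity one -/
structure One : Prop where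
  psi : ψ ≠ 1
  one : ∀ a b, D.P a b → finrank ℂ (D.E ρ ψ a b) = 1
  key : ∀ a b, D.P a b → ∀ c ∈ D.S, a ∈ D.C c → b ∈ D.C c → ∀ f : Dual F N, f c = 0 → f a = 0 → f b = 0 →
    ∀ v ∈ D.E ρ ψ a b, ρ (D.T c f) v = v

variable (D ρ ψ) in
/-- an eigenvector and its coefficient functional -/
structure Eig (a b : N) (v : V) (l : V →ₗ[ℂ] ℂ) : Prop where
  pair : D.P a b
  mem : v ∈ D.E ρ ψ a b
  l_self : l v = 1
  π_eq : ∀ x, D.π ρ ψ a b x = l x • v

omit [Fintype F] [Fintype N] in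
theorem One.exists_eig (h : D.One ρ ψ) {a b : N} (hab : D.P a b) : ∃ v l, D.Eig ρ ψ a b v l := by
  obtain ⟨v, hv, e⟩ := exists_span_of_finrank_eq_one (h.one a b hab)
  obtain ⟨f, hf⟩ := LS.exists_dual_one (F := ℂ) hv
  have hm : v ∈ D.E ρ ψ a b := e ▸ Submodule.mem_span_singleton_self v
  refine ⟨v, f ∘ₗ D.π ρ ψ a b, hab, hm, by simp [π_eq_self hm, hf], fun x => ?_⟩
  obtain ⟨c, hc⟩ := Submodule.mem_span_singleton.1 (e ▸ π_mem hab.1 b x)
  simp [← hc, hf]

namespace Eig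

variable {a b : N} {v : V} {l : V →ₗ[ℂ] ℂ} (h : D.Eig ρ ψ a b v l)
include h

omit [Fintype F] [Fintype N] in
theorem ne_zero : v ≠ 0 := fun e => by simpa [e] using h.l_self

omit [Fintype F] [Fintype N] in
theorem l_eq_zero {x : V} (hx : D.π ρ ψ a b x = 0) : l x = 0 :=
  (smul_eq_zero.1 ((h.π_eq x).symm.trans hx)).resolve_right h.ne_zero

omit [Fintype F] [Fintype N] in
theorem l_apply (hψ : ψ ≠ 1) {g : G} (hg : D.act g a = a) (hb : D.act g b - b ∉ F ∙ a) : l (ρ g v) = 0 :=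
  h.l_eq_zero (π_eq_zero hψ h.pair.1 hb (by simpa [hg] using apply_mem_E g h.pair.1 h.mem))

omit [Fintype F] in
theorem class_sum [FiniteDimensional ℂ V] {L : Submodule F N} (ha : a ∈ L)
    (hT : ∀ c ∈ D.S, c ∈ L → ∀ f : Dual F N, f c = 0 → D.T c f ∈ D.K L)
    (htr : ∀ c ∈ D.S, c ∈ L → ∃ g ∈ D.K L, D.act g a = c) :
    (∑ c with c ∈ D.S ∧ c ∈ L, l (D.π ρ ψ c 0 v)) * finrank ℂ (orb ρ (D.K L) v) =
      (Finset.univ.filter fun c => c ∈ D.S ∧ c ∈ L).card * finrank ℂ ↥(orb ρ (D.K L) v ⊓ D.E ρ ψ a 0) := by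
  set s := Finset.univ.filter fun c => c ∈ D.S ∧ c ∈ L with hs
  have hs' : ∀ c, c ∈ s ↔ c ∈ D.S ∧ c ∈ L := fun c => by simp [hs]
  have h1 : ∀ g ∈ D.K L, ∀ x, ρ g (∑ c ∈ s, D.π ρ ψ c 0 x) = ∑ c ∈ s, D.π ρ ψ c 0 (ρ g x) := fun g hg x => by
    rw [map_sum]
    refine Finset.sum_equiv (D.act g).toEquiv (fun c => ?_) fun c hc => ?_
    · rw [hs', hs']
      exact and_congr ⟨D.act_S g c, fun e => by simpa [act_inv] using D.act_S g⁻¹ _ e⟩ (hg c).symm
    · rw [apply_π g ((hs' c).1 hc).1, map_zero]; rfl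
  have h2 : ∑ c ∈ s, D.π ρ ψ c 0 v = (∑ c ∈ s, l (D.π ρ ψ c 0 v)) • v := by
    rw [← map_sum, ← h.π_eq, π_eq_self]
    refine mem_E.2 fun f hf => ?_
    rw [h1 _ (hT a h.pair.1 ha f hf), mem_E.1 h.mem f hf, Finset.smul_sum]
    simp
  rw [← sum_finrank_of_proj s (D.π ρ ψ · 0) (D.E ρ ψ · 0) (fun c hc => π_mem ((hs' c).1 hc).1 0)
    (fun c _ v => π_eq_self) (fun c hc x hx => pj_mem_of_stab _ fun f =>
      apply_mem_orb (hT c ((hs' c).1 hc).1 ((hs' c).1 hc).2 f f.2) hx) fun x hx => ?_,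
    ← nsmul_eq_mul, ← Finset.sum_const]
  · refine Finset.sum_congr rfl fun c hc => ?_
    obtain ⟨g, hg, rfl⟩ := htr c ((hs' c).1 hc).1 ((hs' c).1 hc).2
    rw [← finrank_inf_E (fun _ => apply_mem_orb hg) (fun _ => apply_mem_orb (inv_mem hg)) h.pair.1 0, map_zero]
  · have := orb_le (W := LinearMap.ker (∑ c ∈ s, D.π ρ ψ c 0 - (∑ c ∈ s, l (D.π ρ ψ c 0 v)) • 1))
      (fun g hg => by
        rw [LinearMap.mem_ker, LinearMap.sub_apply, LinearMap.sum_apply, ← h1 g hg, h2, map_smul]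
        simp) hx
    rwa [LinearMap.mem_ker, LinearMap.sub_apply, LinearMap.sum_apply, sub_eq_zero] at this

omit [Fintype F] in
/-- the class sum over the whole space -/
theorem total [FiniteDimensional ℂ V] [ρ.IsIrreducible] (htr : ∀ c ∈ D.S, ∃ g, D.act g a = c) :
    (∑ c with c ∈ D.S, l (D.π ρ ψ c 0 v)) * finrank ℂ V =
      (Finset.univ.filter (· ∈ D.S)).card * finrank ℂ (D.E ρ ψ a 0) := by
  have e : D.K ⊤ = ⊤ := eq_top_iff.2 fun g _ x => by simp
  have := h.class_sum (L := ⊤) trivial (fun _ _ _ _ _ => e.ge trivial) fun c hc _ =>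
    (htr c hc).imp fun g hg => ⟨e.ge trivial, hg⟩
  rw [e, orb_top h.ne_zero, top_inf_eq, finrank_top] at this
  simpa using this

/-- the class sum over the plane -/
theorem plane [FiniteDimensional ℂ V] (h1 : D.One ρ ψ) : ∃ e : ℕ,
    (∑ c with c ∈ D.S ∧ c ∈ Submodule.span F {a, b}, l (D.π ρ ψ c 0 v)) * (e + Fintype.card F - 1) =
      (Fintype.card F ^ 2 - 1) * e := by
  set L := Submodule.span F {a, b}
  have ha : a ∈ L := Submodule.subset_span (by simp)
  have hb : b ∈ L := Submodule.subset_span (by simp)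
  have a0 := D.ne_zero a h.pair.1
  have hK : ∀ g, D.act g a ∈ L → D.act g b ∈ L → g ∈ D.K L := fun g e e' => mem_K_of_finite fun x hx => by
    obtain ⟨s, t, rfl⟩ := Submodule.mem_span_pair.1 hx
    rw [map_add, map_smul, map_smul]
    exact add_mem (L.smul_mem _ e) (L.smul_mem _ e')
  have hT : ∀ c ∈ D.S, c ∈ L → ∀ f : Dual F N, f c = 0 → D.T c f ∈ D.K L := fun c hc hL f hf =>
    mem_K_of_finite fun x hx => by
      rw [D.T_act c hc f hf x (h.pair.span_le hL (D.ne_zero c hc) hx)]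
      exact add_mem hx (L.smul_mem _ hL)
  have h2 := h.class_sum ha hT fun c hc hL => by
    obtain ⟨d, hd, hcd⟩ : ∃ d ∈ L, d ∉ F ∙ c := by
      by_contra! hn
      obtain ⟨s, rfl⟩ := Submodule.mem_span_singleton.1 (hn a ha)
      rw [Submodule.span_singleton_smul_eq (IsUnit.mk0 s (left_ne_zero_of_smul a0)) c |>.symm] at hn
      exact h.pair.2.2.2 (hn b hb)
    obtain ⟨g, e, e'⟩ := h.pair.act (h.pair.of_mem hL (D.ne_zero c hc) hd hcd)
    exact ⟨g, hK g (e ▸ hL) (e' ▸ hd), e⟩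
  set W := orb ρ (D.K L) v
  have h3 := sum_finrank_E h1.psi h.pair.1 (W := W) fun f hf x hx => apply_mem_orb (hT a h.pair.1 ha f hf) hx
  have h4 : ∀ d, d ∉ F ∙ a → finrank ℂ ↥(W ⊓ D.E ρ ψ a d) = if d ∈ L then 1 else 0 := fun d hd => by
    split_ifs with hL
    · have hp := h.pair.of_mem ha a0 hL hd
      obtain ⟨g, e, e'⟩ := h.pair.act hp
      refine le_antisymm ((Submodule.finrank_mono inf_le_right).trans (h1.one a d hp).le)
        (Nat.one_le_iff_ne_zero.2 fun e0 => h.ne_zero ?_)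
      have : ρ g v ∈ W ⊓ D.E ρ ψ a d :=
        ⟨mem_orb (hK g (e.symm ▸ ha) (e'.symm ▸ hL)) v, e ▸ e' ▸ apply_mem_E g h.pair.1 h.mem⟩
      rw [Submodule.finrank_eq_zero.1 e0, Submodule.mem_bot] at this
      rw [← inv_apply_apply (ρ := ρ) g v, this, map_zero]
    · obtain ⟨f, f0, f1⟩ := exists_dual_span hL
      obtain ⟨t, ht⟩ := exists_psi_ne h1.psi one_ne_zero
      have f2 : ∀ y ∈ L, (t • f) y = 0 := fun y hy => by simp [f0 y hy]
      have hW : W ≤ fx ρ {D.T a (t • f)} := orb_le fun g hg => by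
        rintro _ rfl
        have hc : D.act g⁻¹ a ∈ L := (inv_mem hg a).2 ha
        have hc' := D.act_S g⁻¹ a h.pair.1
        have e : D.act g (D.act g⁻¹ a) = a := by simp
        have := T_conj' g hc' (f := t • f) (e.symm ▸ f2 a ha)
        rw [e] at this
        rw [← End.mul_apply, ← map_mul, this, map_mul, End.mul_apply,
          h1.key a b h.pair _ hc' (h.pair.span_le hc (D.ne_zero _ hc') ha) (h.pair.span_le hc (D.ne_zero _ hc') hb)
            ((t • f) ∘ₗ (D.act g).toLinearMap) (f2 _ ((hg _).2 hc)) (f2 _ ((hg _).2 ha)) (f2 _ ((hg _).2 hb))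
            v h.mem]
      refine Submodule.finrank_eq_zero.2 (eq_bot_iff.2 fun x hx => ?_)
      have := (mem_E.1 hx.2 _ (f2 a ha)).symm.trans (hW hx.1 _ rfl)
      exact eq_zero_of_smul_eq this (by simpa [f1] using ht)
  have h5 : (Finset.univ.filter fun d => d ∉ F ∙ a ∧ d ∈ L).card + Fintype.card F = Fintype.card F ^ 2 := by
    rw [← card_plane a0 h.pair.2.2.2, ← card_line (F := F) a0,
      ← Finset.card_filter_add_card_filter_not (s := Finset.univ.filter (· ∈ L)) (· ∈ F ∙ a), add_comm]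
    congr 2
    · ext x
      simpa using fun hx => (Submodule.span_singleton_le_iff_mem a L).2 ha hx
    · ext x; simp [and_comm]
  have h6 : (Finset.univ.filter fun c => c ∈ D.S ∧ c ∈ L).card + 1 = Fintype.card F ^ 2 := by
    rw [← card_plane a0 h.pair.2.2.2, ← Finset.card_erase_add_one (s := Finset.univ.filter (· ∈ L))
      (a := 0) (by simp)]
    congr 2
    ext x
    simp only [Finset.mem_filter, Finset.mem_univ, true_and, Finset.mem_erase]
    exact ⟨fun e => ⟨D.ne_zero x e.1, e.2⟩, fun e => ⟨D.comb a h.pair.1 b h.pair.2.1 h.pair.2.2.1 x e.2 e.1, e.2⟩⟩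
  rw [Finset.sum_congr rfl fun d hd => h4 d (by simpa using hd), ← Finset.card_filter, Finset.filter_filter] at h3
  refine ⟨finrank ℂ ↥(W ⊓ D.E ρ ψ a 0), ?_⟩
  have q0 : (Fintype.card F : ℂ) ≠ 0 := Nat.cast_ne_zero.2 Fintype.card_ne_zero
  have h3' := congrArg (Nat.cast : ℕ → ℂ) h3
  have h5' := congrArg (Nat.cast : ℕ → ℂ) h5
  have h6' := congrArg (Nat.cast : ℕ → ℂ) h6
  push_cast at h3' h5' h6'
  have : (finrank ℂ W : ℂ) = finrank ℂ ↥(W ⊓ D.E ρ ψ a 0) + Fintype.card F - 1 :=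
    mul_left_cancel₀ q0 (by linear_combination h3' + h5')
  rw [← this, h2, ← h6']; ring

omit [Fintype N] in
/-- the coefficient for a centre collinear with both vectors -/
theorem mid (h1 : D.One ρ ψ) {c : N} (hc : c ∈ D.S) (ha : a ∈ D.C c) (hb : b ∈ D.C c)
    (hL : c ∉ Submodule.span F {a, b}) : l (D.π ρ ψ c 0 v) = (Fintype.card F : ℂ)⁻¹ := by
  have a0 := D.ne_zero a h.pair.1
  have hca := D.C_symm c hc a h.pair.1 ha
  have ind : ∀ x y z : F, x • a + y • b + z • c = 0 → x = 0 ∧ y = 0 ∧ z = 0 := fun x y z e => by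
    have hz : z = 0 := by_contra fun hz => hL (Submodule.mem_span_pair.2 ⟨-(z⁻¹ * x), -(z⁻¹ * y), by
      rw [← one_smul F c, ← inv_mul_cancel₀ hz, mul_smul, eq_neg_of_add_eq_zero_right e]
      module⟩)
    rw [hz, zero_smul, add_zero] at e
    have hy : y = 0 := by_contra fun hy => h.pair.2.2.2 (Submodule.mem_span_singleton.2 ⟨-(y⁻¹ * x), by
      rw [← one_smul F b, ← inv_mul_cancel₀ hy, mul_smul, eq_neg_of_add_eq_zero_right e]
      module⟩)
    rw [hy, zero_smul, add_zero] at e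
    exact ⟨(smul_eq_zero.1 e).resolve_right a0, hy, hz⟩
  obtain ⟨fa, fa0, fa1⟩ := exists_dual_span (L := Submodule.span F {b, c}) (x := a) fun e => by
    obtain ⟨y, z, e⟩ := Submodule.mem_span_pair.1 e
    simpa using (ind (-1) y z (by rw [add_assoc, e]; simp)).1
  obtain ⟨fb, fb0, fb1⟩ := exists_dual_span (L := Submodule.span F {a, c}) (x := b) fun e => by
    obtain ⟨y, z, e⟩ := Submodule.mem_span_pair.1 e
    simpa using (ind y (-1) z (by rw [add_right_comm, e]; simp)).2.1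
  have fab := fa0 b (Submodule.subset_span (by simp))
  have fac := fa0 c (Submodule.subset_span (by simp))
  have fba := fb0 a (Submodule.subset_span (by simp))
  have fbc := fb0 c (Submodule.subset_span (by simp))
  have h2 : ∀ x : F, x ≠ 0 → D.π ρ ψ c (x • a) v = 0 := fun x hx => by
    obtain ⟨t, ht⟩ := exists_psi_ne h1.psi one_ne_zero
    have e1 : (t • fb) a = 0 := by simp [fba]
    have e2 : (t • fb) c = 0 := by simp [fbc]
    have hp : D.P c (x • a) := ⟨hc, D.comb a h.pair.1 b h.pair.2.1 h.pair.2.2.1 _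
      (Submodule.smul_mem _ _ (Submodule.subset_span (by simp))) (smul_ne_zero hx a0), Submodule.smul_mem _ _ ha,
      fun e => by
        obtain ⟨z, e⟩ := Submodule.mem_span_singleton.1 e
        exact hx (ind x 0 (-z) (by simp [e])).1⟩
    have := h1.key _ _ hp a h.pair.1 hca (Submodule.smul_mem _ _ (D.mem_C a h.pair.1)) _ e1 e2
      (by simp [fba]) _ (π_mem hc _ v)
    rw [apply_π _ hc, map_smul, T_self h.pair.1 e1, D.T_act a h.pair.1 _ e1 c hca, e2, zero_smul, add_zero,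
      mem_E.1 h.mem _ e1, map_smul] at this
    exact eq_zero_of_smul_eq this (by simpa [fb1] using ht)
  have h3 : ∀ f : Ann F c, f.1 a = 0 → l (ρ (D.T c f) v) = if f.1 b = 0 then 1 else 0 := fun f hf => by
    split_ifs with e
    · rw [h1.key a b h.pair c hc ha hb f f.2 hf e v h.mem, h.l_self]
    · refine h.l_apply h1.psi (by rw [D.T_act c hc f.1 f.2 a ha, hf, zero_smul, add_zero]) fun e' => ?_
      rw [D.T_act c hc f.1 f.2 b hb, add_sub_cancel_left] at e'
      obtain ⟨z, e'⟩ := Submodule.mem_span_singleton.1 e'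
      exact e (ind (-z) 0 _ (by simp [← e'])).2.2
  have h4 := LS.card_ker_mul (V := Ann F c) (LinearMap.prod (Dual.eval F N a ∘ₗ (Ann F c).subtype)
    (Dual.eval F N b ∘ₗ (Ann F c).subtype)) (fun p => ⟨⟨p.1 • fa + p.2 • fb, by simp [fac, fbc]⟩, by
      simp [fa1, fab, fba, fb1]⟩) 0
  have q0 : (Fintype.card F : ℂ) ≠ 0 := Nat.cast_ne_zero.2 Fintype.card_ne_zero
  have M0 : (Fintype.card (Ann F c) : ℂ) ≠ 0 := Nat.cast_ne_zero.2 Fintype.card_ne_zero
  have h5 : D.π ρ ψ c 0 v = ∑ x : F, D.π ρ ψ c (x • a) v := by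
    rw [Finset.sum_eq_single 0 (fun x _ => h2 x) (by simp), zero_smul]
  rw [h5]
  simp only [π, pj_apply, map_sum, map_smul, chr_apply, smul_eq_mul]
  rw [← Finset.mul_sum, Finset.sum_comm, Finset.sum_congr rfl fun (f : Ann F c) _ => show
    ∑ x : F, ψ (x * (-f).1 a) * l (ρ (D.T c f) v) = if f.1 a = 0 ∧ f.1 b = 0 then (Fintype.card F : ℂ) else 0 by
      rw [← Finset.sum_mul, AddChar.sum_mulShift _ (AddChar.IsPrimitive.of_ne_one h1.psi)]
      by_cases e : f.1 a = 0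
      · simp [e, h3 f e]
      · simp [e], ← Finset.sum_filter, Finset.sum_const, nsmul_eq_mul]
  have h6 : ((Finset.univ.filter fun f : Ann F c => f.1 a = 0 ∧ f.1 b = 0).card : ℂ) *
      (Fintype.card F * Fintype.card F) = Fintype.card (Ann F c) := by
    rw [← h4, Fintype.card_prod]
    push_cast
    congr 3
    ext f; simp
  field_simp
  linear_combination h6

end Eig

end TSys

end CfsgLib.ClDeg
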