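import Mathlib
import Cfsg.Agent.Lib.ClDeg.TSys

/-!
# Transvections and short root elements of the symplectic group
-/

set_option autoImplicit false

namespace CfsgLib.ClDeg

open Matrix CfsgLib.Forms CfsgLib.Symp CfsgLib.LS

variable {F : Type*} [Field F] {m : ℕ}

/-- the short root elements -/
def spX (e x : Fin m ⊕ Fin m → F) : symplecticGroup (Fin m) F := spT (e + x) 1 * spT e (-1) * spT x (-1)

theorem spB_symm {e x : Fin m ⊕ Fin m → F} (h : spB (Fin m) F e x = 0) : spB (Fin m) F x e = 0 := by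
  rw [spB_comm, h, neg_zero]

theorem spX_smul {e x : Fin m ⊕ Fin m → F} (h : spB (Fin m) F e x = 0) (y : Fin m ⊕ Fin m → F) :
    spX e x • y = y + spB (Fin m) F y x • e + spB (Fin m) F y e • x := by
  simp only [spX, mul_smul, spT_smul, map_add, map_smul, LinearMap.add_apply, LinearMap.smul_apply, spB_self, h,
    spB_symm h, smul_eq_mul]
  module

theorem spX_mul {e x x' : Fin m ⊕ Fin m → F} (h : spB (Fin m) F e x = 0) (h' : spB (Fin m) F e x' = 0) :
    spX e x * spX e x' = spX e (x + x') * spT e (-spB (Fin m) F x x') := sp_ext fun y => by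
  simp only [mul_smul, spX_smul h, spX_smul h', spX_smul (show spB (Fin m) F e (x + x') = 0 by simp [h, h']),
    spT_smul, map_add, map_smul, LinearMap.add_apply, LinearMap.smul_apply, spB_self, h, h', spB_symm h',
    spB_comm x' x, smul_eq_mul]
  module

theorem spT_eq_top {S : Subgroup (symplecticGroup (Fin m) F)} {e f : Fin m ⊕ Fin m → F} (h : spB (Fin m) F f e ≠ 0)
    (he : ∀ c, spT e c ∈ S) (hf : ∀ c, spT f c ∈ S) (hX : ∀ x, spB (Fin m) F e x = 0 → spX e x ∈ S) : S = ⊤ := by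
  have hc : ∀ g ∈ S, ∀ w c, spT w c ∈ S ↔ spT (g • w) c ∈ S := fun g hg w c => by
    rw [← conj_spT, S.mul_mem_cancel_right (inv_mem hg), S.mul_mem_cancel_left hg]
  have h1 : ∀ w, spB (Fin m) F w e ≠ 0 → ∀ c, spT w c ∈ S := fun w hw c => by
    let x := (spB (Fin m) F w e)⁻¹ • w - (spB (Fin m) F f e)⁻¹ • f
    have hx : spB (Fin m) F e x = 0 := spB_symm (by simp [x, hw, h])
    have := (hc _ (mul_mem (he (-(spB (Fin m) F f e)⁻¹ * spB (Fin m) F f x)) (hX x hx))
      ((spB (Fin m) F w e / spB (Fin m) F f e) • f) c).1 (spT_smul_left _ f c ▸ hf _)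
    convert this using 2
    simp only [mul_smul, spX_smul hx, spT_smul, map_add, map_smul, LinearMap.add_apply, LinearMap.smul_apply,
      spB_self, spB_symm hx, smul_eq_mul]
    simp only [x]
    match_scalars <;> field_simp <;> ring
  refine eq_top_of_spT_mem S fun w c hw => by_contra fun hw' => ?_
  obtain ⟨y, h2, h3, -⟩ := (spPQ (Fin m) F).exists_not_orth_two (spPQ_nondeg _ _) ⊥ (u := w) (u' := e)
    (by simpa using hw) (by rintro rfl; simp at h)
  refine hw' ((hc _ (h1 y h3 1) w c).2 (h1 _ ?_ c))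
  have h4 : spB (Fin m) F w e = 0 := by_contra fun e => hw' (h1 w e c)
  simp only [spT_smul, map_add, map_smul, LinearMap.add_apply, LinearMap.smul_apply, h4, zero_add, one_mul,
    smul_eq_mul, spB_comm w y]
  exact mul_ne_zero (neg_ne_zero.2 h2) h3

theorem spB_elim (y z : Fin m → F) (x : Fin m ⊕ Fin m → F) :
    spB (Fin m) F x (Sum.elim y z) = (x ∘ Sum.inr) ⬝ᵥ y - (x ∘ Sum.inl) ⬝ᵥ z := by
  rw [spB_eq_sum, Finset.sum_sub_distrib]; rfl

theorem spT_elim (y : Fin m → F) (c : F) : spT (Sum.elim y 0) c = spS (c • sqS y) := sp_ext fun x => by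
  rw [spT_smul, spB_elim, sp_smul_def, ← Sum.elim_comp_inl_inr x]
  ext (i | i) <;> simp [spS, sqS, fromBlocks_mulVec, smul_mulVec, vecMulVec_mulVec, dotProduct_comm y, mul_comm, mul_left_comm]

theorem exists_lag (hm : 2 ≤ m) {e x : Fin m ⊕ Fin m → F} (h : spB (Fin m) F e x = 0) :
    ∃ (g : symplecticGroup (Fin m) F) (y z : Fin m → F), g • Sum.elim y 0 = e ∧ g • Sum.elim z 0 = x := by
  let i : Fin m := ⟨0, by omega⟩
  let j : Fin m := ⟨1, by omega⟩
  have hij : i ≠ j := by simp [i, j]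
  have h0 : Sum.elim (Pi.single i (1 : F) : Fin m → F) (0 : Fin m → F) ≠ 0 := fun e => by
    simpa using congrFun e (.inl i)
  have h1 : ∀ w : Fin m ⊕ Fin m → F, ∃ (g : symplecticGroup (Fin m) F) (y : Fin m → F), g • Sum.elim y 0 = w :=
    fun w => by
      rcases eq_or_ne w 0 with rfl | hw
      · exact ⟨1, 0, by simp⟩
      · exact (exists_smul_eq h0 hw).imp fun _ h => ⟨_, h⟩
  rcases eq_or_ne e 0 with rfl | he
  · obtain ⟨g, z, hz⟩ := h1 x
    exact ⟨g, 0, z, by simp, hz⟩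
  by_cases hx : x ∈ F ∙ e
  · obtain ⟨t, rfl⟩ := Submodule.mem_span_singleton.1 hx
    obtain ⟨g, y, rfl⟩ := h1 e
    exact ⟨g, y, t • y, rfl, by rw [← smul_comm]; congr 1; ext (k | k) <;> simp⟩
  obtain ⟨g, hg, hgv⟩ := witt_alt_family (spB _ F) (spB_nondegenerate _ F) (spB_isAlt _ F)
    ![Sum.elim (Pi.single i 1) 0, Sum.elim (Pi.single j 1) 0] ![e, x]
    (linearIndependent_pair_of_not_mem h0 fun e => by
      obtain ⟨t, ht⟩ := Submodule.mem_span_singleton.1 e
      simpa [hij.symm] using congrFun ht (.inl j))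
    (linearIndependent_pair_of_not_mem he hx) (by
      intro a b
      fin_cases a <;> fin_cases b <;> simp [spB_self, h, spB_symm h, spB_eq_sum _ _ (Pi.single _ _)])
  obtain ⟨A, hA⟩ := exists_sp_of_linearMap g.toLinearMap ((spPQ_isIso _ F _).2 hg)
  exact ⟨A, _, _, (hA _).trans (hgv 0), (hA _).trans (hgv 1)⟩

theorem exists_perp_pair (hm : 2 ≤ m) {u v : Fin m ⊕ Fin m → F} (h : spB (Fin m) F u v ≠ 0) :
    ∃ e f, spB (Fin m) F f e ≠ 0 ∧ (spB (Fin m) F e u = 0 ∧ spB (Fin m) F e v = 0) ∧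
      spB (Fin m) F f u = 0 ∧ spB (Fin m) F f v = 0 := by
  let i : Fin m := ⟨0, by omega⟩
  let j : Fin m := ⟨1, by omega⟩
  have hij : i ≠ j := by simp [i, j]
  obtain ⟨g, h1, h2⟩ := sp_transitive_hyperbolic (Pi.single (.inr i) (1 : F)) (Pi.single (.inl i) 1)
    u ((spB (Fin m) F u v)⁻¹ • v) (by simp [spB_eq_sum, Pi.single_apply]) (by simp [h])
  rw [← sp_smul_def] at h1 h2
  rw [eq_inv_smul_iff₀ h] at h2
  refine ⟨g • Pi.single (.inr j) 1, g • Pi.single (.inl j) 1, ?_⟩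
  generalize spB (Fin m) F u v = β at h2
  simp only [← h1, ← h2, map_smul, spB_smul_smul]
  simp [spB_eq_sum, Pi.single_apply, hij]

/-- a diagonal similitude -/
def simD (δ : F) : Matrix (Fin m ⊕ Fin m) (Fin m ⊕ Fin m) F := fromBlocks 1 0 0 (δ • 1)

theorem simD_mul (δ δ' : F) : (simD δ * simD δ' : Matrix (Fin m ⊕ Fin m) _ F) = simD (δ * δ') := by
  simp [simD, fromBlocks_multiply, smul_smul, mul_comm]

theorem simD_one : (simD 1 : Matrix (Fin m ⊕ Fin m) _ F) = 1 := by simp [simD]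

theorem spB_simD (δ : F) (u v : Fin m ⊕ Fin m → F) :
    spB (Fin m) F (simD δ *ᵥ u) (simD δ *ᵥ v) = δ * spB (Fin m) F u v := by
  rw [← Sum.elim_comp_inl_inr v, simD, fromBlocks_mulVec, fromBlocks_mulVec, spB_elim, spB_elim]
  simp [mul_sub, smul_mulVec]

/-- conjugation by a similitude -/
def simHom (δ : Fˣ) : symplecticGroup (Fin m) F →* symplecticGroup (Fin m) F where
  toFun A := ⟨simD δ.1 * A.1 * simD δ⁻¹.1, (mem_sp_iff _).2 fun u v => by
    simp only [← mulVec_mulVec, spB_simD, (mem_sp_iff _).1 A.2, Units.mul_inv_cancel_left]⟩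
  map_one' := Subtype.ext (by simp [simD_mul, simD_one])
  map_mul' A B := Subtype.ext (by
    simp only [Submonoid.coe_mul, Matrix.mul_assoc]
    rw [← Matrix.mul_assoc (simD _) (simD _), simD_mul, Units.inv_mul, simD_one, Matrix.one_mul])

/-- the diagonal automorphism -/
def simAut (δ : Fˣ) : symplecticGroup (Fin m) F ≃* symplecticGroup (Fin m) F :=
  (simHom δ).toMulEquiv (simHom δ⁻¹)
    (MonoidHom.ext fun A => Subtype.ext (by
      simp only [simHom, MonoidHom.comp_apply, MonoidHom.coe_mk, OneHom.coe_mk, ← Matrix.mul_assoc, simD_mul]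
      simp [Matrix.mul_assoc, simD_mul, simD_one]))
    (MonoidHom.ext fun A => Subtype.ext (by
      simp only [simHom, MonoidHom.comp_apply, MonoidHom.coe_mk, OneHom.coe_mk, ← Matrix.mul_assoc, simD_mul]
      simp [Matrix.mul_assoc, simD_mul, simD_one]))

theorem simAut_spT (δ : Fˣ) (w : Fin m ⊕ Fin m → F) (c : F) :
    simAut δ (spT w c) = spT (simD δ.1 *ᵥ w) (δ⁻¹.1 * c) := sp_ext fun x => by
  have h : simD δ.1 *ᵥ (simD δ⁻¹.1 *ᵥ x) = x := by rw [mulVec_mulVec, simD_mul, Units.mul_inv, simD_one, one_mulVec]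
  change (simD δ.1 * (spT w c).1 * simD δ⁻¹.1) *ᵥ x = _
  rw [← mulVec_mulVec, ← mulVec_mulVec, ← sp_smul_def, spT_smul, spT_smul, mulVec_add, mulVec_smul, h]
  conv_rhs => rw [← h, spB_simD, h]
  congr 2
  rw [mul_comm _ c, mul_assoc, Units.inv_mul_cancel_left]

end CfsgLib.ClDeg
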